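import Mathlib.RingTheory.Spectrum.Prime.FreeLocus
import Mathlib.RingTheory.Flat.Rank
import Mathlib.RingTheory.Localization.Away.Basic
import Mathlib.RingTheory.Support
import Mathlib.RingTheory.OrzechProperty

/-!
# Quadratic algebras and their standard involution
-/

set_option autoImplicit false
noncomputable section

universe u

namespace DblCovLib

variable {A B : Type u} [CommRing A] [CommRing B] [Algebra A B]

/-- The elements `1, w` form a basis. -/
def Good (A : Type u) {B : Type u} [CommRing A] [CommRing B] [Algebra A B] (w : B) : Prop :=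
  Function.Bijective fun ac : A × A => algebraMap A B ac.1 + algebraMap A B ac.2 * w

variable {w : B} (hw : Good A w)

include hw in
theorem coeff_eq {a c a' c' : A}
    (h : algebraMap A B a + algebraMap A B c * w = algebraMap A B a' + algebraMap A B c' * w) : a = a' ∧ c = c' :=
  Prod.mk.injEq .. ▸ hw.1 (a₁ := (a, c)) (a₂ := (a', c')) h

/-- The coefficient of `w` in `w²`. -/
def v : A := ((Equiv.ofBijective _ hw).symm (w * w)).2

/-- The constant coefficient of `w²`. -/
def u₀ : A := ((Equiv.ofBijective _ hw).symm (w * w)).1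

theorem w_mul_w : w * w = algebraMap A B (u₀ hw) + algebraMap A B (v hw) * w :=
  ((Equiv.ofBijective _ hw).apply_symm_apply (w * w)).symm

theorem v_eq {s n : A} (h : w * w = algebraMap A B n + algebraMap A B s * w) : v hw = s :=
  (coeff_eq hw ((w_mul_w hw).symm.trans h)).2

/-- The underlying map of the involution. -/
def invFun (b : B) : B :=
  algebraMap A B ((Equiv.ofBijective _ hw).symm b).1 +
    algebraMap A B ((Equiv.ofBijective _ hw).symm b).2 * (algebraMap A B (v hw) - w)

theorem invFun_apply (a c : A) :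
    invFun hw (algebraMap A B a + algebraMap A B c * w) =
      algebraMap A B a + algebraMap A B c * (algebraMap A B (v hw) - w) := by
  unfold invFun
  rw [show algebraMap A B a + algebraMap A B c * w = Equiv.ofBijective _ hw (a, c) from rfl, Equiv.symm_apply_apply]

theorem invFun_algebraMap (a : A) : invFun hw (algebraMap A B a) = algebraMap A B a := by
  have := invFun_apply hw a 0
  simpa using this

/-- The involution. -/
def invol : B →ₐ[A] B where
  toFun := invFun hw
  map_one' := by simpa using invFun_algebraMap hw 1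
  map_zero' := by simpa using invFun_algebraMap hw 0
  map_add' x y := by
    obtain ⟨⟨a, c⟩, rfl⟩ := hw.2 x
    obtain ⟨⟨a', c'⟩, rfl⟩ := hw.2 y
    rw [show algebraMap A B a + algebraMap A B c * w + (algebraMap A B a' + algebraMap A B c' * w) =
      algebraMap A B (a + a') + algebraMap A B (c + c') * w by simp only [map_add]; ring]
    rw [invFun_apply, invFun_apply, invFun_apply]
    simp only [map_add]
    ring
  map_mul' x y := by
    obtain ⟨⟨a, c⟩, rfl⟩ := hw.2 x
    obtain ⟨⟨a', c'⟩, rfl⟩ := hw.2 y
    rw [show (algebraMap A B a + algebraMap A B c * w) * (algebraMap A B a' + algebraMap A B c' * w) =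
      algebraMap A B (a * a' + c * c' * u₀ hw) + algebraMap A B (a * c' + a' * c + c * c' * v hw) * w by
        simp only [map_add, map_mul]
        linear_combination (algebraMap A B c * algebraMap A B c') * (w_mul_w hw)]
    rw [invFun_apply, invFun_apply, invFun_apply]
    simp only [map_add, map_mul]
    linear_combination -(algebraMap A B c * algebraMap A B c') * (w_mul_w hw)
  commutes' := invFun_algebraMap hw

theorem invol_w : invol hw w = algebraMap A B (v hw) - w := by
  have := invFun_apply hw 0 1
  simpa [invol] using this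

theorem invol_invol (b : B) : invol hw (invol hw b) = b := by
  obtain ⟨⟨a, c⟩, rfl⟩ := hw.2 b
  simp only [map_add, map_mul, AlgHom.commutes, invol_w, map_sub, sub_sub_cancel]

theorem fixed_mem_range (h2 : IsUnit (2 : A)) {b : B} (hb : invol hw b = b) : b ∈ Set.range (algebraMap A B) := by
  obtain ⟨⟨a, c⟩, rfl⟩ := hw.2 b
  simp only [map_add, map_mul, AlgHom.commutes, invol_w] at hb
  obtain ⟨-, hc⟩ := coeff_eq hw (a := a + c * v hw) (c := -c) (a' := a) (c' := c) (by
    simp only [map_add, map_mul, map_neg]
    linear_combination hb)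
  have : c = 0 := (h2.mul_right_eq_zero).1 (by linear_combination -hc)
  exact ⟨a, by simp [this]⟩

theorem algebraMap_injective (hw : Good A w) : Function.Injective (algebraMap A B) := fun a a' h =>
  (coeff_eq hw (a := a) (c := 0) (a' := a') (c' := 0) (by rw [h])).1

theorem invol_eq {w' : B} (hw' : Good A w') : invol hw = invol hw' := by
  have key : ∀ b, invol hw b = invol hw' b := by
    obtain ⟨⟨a, c⟩, hac⟩ := hw.2 w'
    have hv : v hw' = 2 * a + c * v hw := v_eq hw' (n := c * c * u₀ hw - a * a - a * c * v hw) (by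
      rw [← hac]
      simp only [map_add, map_mul, map_sub, map_ofNat]
      linear_combination (algebraMap A B c * algebraMap A B c) * w_mul_w hw)
    intro b
    obtain ⟨⟨p, r⟩, rfl⟩ := hw'.2 b
    simp only [map_add, map_mul, AlgHom.commutes]
    rw [invol_w hw', hv, ← hac]
    simp only [map_add, map_mul, AlgHom.commutes, invol_w, map_ofNat]
    ring
  exact AlgHom.ext key

theorem invol_natural {A' B' : Type u} [CommRing A'] [CommRing B'] [Algebra A' B'] (φA : A →+* A') (φB : B →+* B')
    (hcomm : ∀ a, φB (algebraMap A B a) = algebraMap A' B' (φA a)) {w' : B'} (hw' : Good A' w')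
    (hφw : Good A' (φB w)) (b : B) : φB (invol hw b) = invol hw' (φB b) := by
  rw [← invol_eq hφw hw']
  have hv : v hφw = φA (v hw) := v_eq hφw (n := φA (u₀ hw)) (by
    rw [← map_mul, w_mul_w hw, map_add, map_mul, hcomm, hcomm])
  obtain ⟨⟨a, c⟩, rfl⟩ := hw.2 b
  simp only [map_add, map_mul, AlgHom.commutes, invol_w, map_sub, hcomm, hv]

theorem good_of_away {A' B' : Type u} [CommRing A'] [CommRing B'] [Algebra A' B'] [Algebra A A'] [Algebra B B']
    (g : A) [IsLocalization.Away g A'] [IsLocalization.Away (algebraMap A B g) B']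
    (hcomm : ∀ a, algebraMap B B' (algebraMap A B a) = algebraMap A' B' (algebraMap A A' a))
    (w : B) (hs : ∀ x : B, ∃ (n : ℕ) (a c : A), algebraMap A B g ^ n * x = algebraMap A B a + algebraMap A B c * w)
    (hi : ∀ a c : A, algebraMap A B a + algebraMap A B c * w = 0 → ∃ n : ℕ, g ^ n * a = 0 ∧ g ^ n * c = 0) :
    Good A' (algebraMap B B' w) := by
  have hu : IsUnit (algebraMap A A' g) := IsLocalization.Away.algebraMap_isUnit g
  obtain ⟨i, hig⟩ := hu.exists_left_inv
  constructor
  · intro x y hxy
    have key : ∀ p q : A', algebraMap A' B' p + algebraMap A' B' q * algebraMap B B' w = 0 → p = 0 ∧ q = 0 := by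
      intro p q h
      obtain ⟨n, a, ha⟩ := IsLocalization.Away.surj g p
      obtain ⟨m, c, hc⟩ := IsLocalization.Away.surj g q
      have h' : algebraMap B B' (algebraMap A B (a * g ^ m) + algebraMap A B (c * g ^ n) * w) = 0 := by
        simp only [map_add, map_mul, map_pow, hcomm]
        rw [← ha, ← hc]
        simp only [map_mul, map_pow]
        linear_combination (algebraMap A' B' (algebraMap A A' g) ^ n * algebraMap A' B' (algebraMap A A' g) ^ m) * h
      obtain ⟨⟨_, k, rfl⟩, hk⟩ := (IsLocalization.map_eq_zero_iff (Submonoid.powers (algebraMap A B g)) B' _).1 h'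
      obtain ⟨l, hl1, hl2⟩ := hi (g ^ k * (a * g ^ m)) (g ^ k * (c * g ^ n)) (by
        simp only [map_mul, map_pow] at hk ⊢
        linear_combination hk)
      have e1 := congrArg (algebraMap A A') hl1
      have e2 := congrArg (algebraMap A A') hl2
      simp only [map_mul, map_pow, map_zero, ← ha, ← hc] at e1 e2
      constructor
      · exact ((hu.pow l).mul ((hu.pow k).mul ((hu.pow n).mul (hu.pow m)))).mul_right_eq_zero.1
          (by linear_combination e1)
      · exact ((hu.pow l).mul ((hu.pow k).mul ((hu.pow n).mul (hu.pow m)))).mul_right_eq_zero.1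
          (by linear_combination e2)
    obtain ⟨h1, h2⟩ := key (x.1 - y.1) (x.2 - y.2) (by
      simp only [map_sub]
      linear_combination hxy)
    exact Prod.ext (sub_eq_zero.1 h1) (sub_eq_zero.1 h2)
  · intro x
    obtain ⟨k, b, hb⟩ := IsLocalization.Away.surj (algebraMap A B g) x
    obtain ⟨n, a, c, hac⟩ := hs b
    refine ⟨(algebraMap A A' a * i ^ (k + n), algebraMap A A' c * i ^ (k + n)), ?_⟩
    have e := congrArg (algebraMap B B') hac
    simp only [map_mul, map_pow, map_add, ← hb, hcomm] at e
    have one : algebraMap A' B' i * algebraMap A' B' (algebraMap A A' g) = 1 := by rw [← map_mul, hig, map_one]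
    have onek : (algebraMap A' B' i * algebraMap A' B' (algebraMap A A' g)) ^ (k + n) = 1 := by rw [one, one_pow]
    simp only [map_mul, map_pow]
    linear_combination -(algebraMap A' B' i) ^ (k + n) * e + x * onek

theorem exists_good_near [Module.Finite A B] [Module.Flat A B]
    (hrk : ∀ p : PrimeSpectrum A, Module.rankAtStalk B p = 2) (P : PrimeSpectrum A) :
    ∃ g : A, g ∉ P.asIdeal ∧ ∃ w : B,
      (∀ x : B, ∃ (n : ℕ) (a c : A), algebraMap A B g ^ n * x = algebraMap A B a + algebraMap A B c * w) ∧
      ∀ a c : A, algebraMap A B a + algebraMap A B c * w = 0 → ∃ n : ℕ, g ^ n * a = 0 ∧ g ^ n * c = 0 := by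
  classical
  let AP := Localization.AtPrime P.asIdeal
  let BP := LocalizedModule P.asIdeal.primeCompl B
  let l := LocalizedModule.mkLinearMap P.asIdeal.primeCompl B
  haveI : Module.Free AP BP := Module.free_of_flat_of_isLocalRing
  have hP : Module.finrank AP BP = 2 := hrk P
  let bas : Module.Basis (Fin 2) AP BP :=
    (Module.Free.chooseBasis AP BP).reindex (Fintype.equivFinOfCardEq (by
      rw [← Module.finrank_eq_card_chooseBasisIndex]; exact hP))
  have hxs : ∀ i, ∃ (x : B) (s : P.asIdeal.primeCompl), (s : A) • bas i = l x := fun i => by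
    obtain ⟨⟨x, s⟩, hx⟩ := IsLocalizedModule.surj P.asIdeal.primeCompl l (bas i)
    exact ⟨x, s, hx⟩
  choose xb sb hxb using hxs
  have hunit : ∀ (s : P.asIdeal.primeCompl) (z y : BP), (s : A) • z = y → ∃ c : AP, z = c • y := fun s z y h => by
    obtain ⟨c, hc⟩ := (IsLocalization.map_units AP s).exists_left_inv
    exact ⟨c, by rw [← h, ← IsScalarTower.algebraMap_smul AP (s : A) z, smul_smul, hc, one_smul]⟩
  obtain ⟨i₀, hi₀⟩ : ∃ i, IsUnit (bas.repr (l 1) i) := by
    by_contra! hall
    have hmax : ∀ i, bas.repr (l 1) i ∈ IsLocalRing.maximalIdeal AP := hall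
    have hx1 : ∀ x : B, l x ∈ (IsLocalRing.maximalIdeal AP) • (⊤ : Submodule AP BP) := fun x => by
      let mx : BP →ₗ[AP] BP := IsLocalizedModule.mapExtendScalars P.asIdeal.primeCompl l l AP (LinearMap.mulLeft A x)
      have hm : mx (l 1) = l x := by
        change IsLocalizedModule.map P.asIdeal.primeCompl l l (LinearMap.mulLeft A x) (l 1) = l x
        rw [IsLocalizedModule.map_apply, LinearMap.mulLeft_apply, mul_one]
      rw [← hm, ← bas.sum_repr (l 1), map_sum]
      refine Submodule.sum_mem _ fun i _ => ?_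
      rw [map_smul]
      exact Submodule.smul_mem_smul (hmax i) trivial
    have htop : (⊤ : Submodule AP BP) ≤ (IsLocalRing.maximalIdeal AP) • (⊤ : Submodule AP BP) := fun z _ => by
      obtain ⟨⟨x, s⟩, hx⟩ := IsLocalizedModule.surj P.asIdeal.primeCompl l z
      obtain ⟨c, hc⟩ := hunit s z (l x) hx
      rw [hc]
      exact Submodule.smul_mem _ _ (hx1 x)
    have h0 := Submodule.eq_bot_of_le_smul_of_le_jacobson_bot _ _ Module.Finite.fg_top htop
      (IsLocalRing.maximalIdeal_le_jacobson _)
    have : bas 0 = 0 := (Submodule.mem_bot AP).1 (h0 ▸ trivial)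
    exact bas.ne_zero 0 this
  obtain ⟨j, hj⟩ : ∃ j : Fin 2, ∀ i, i = i₀ ∨ i = j :=
    ⟨i₀ + 1, fun i => (show ∀ a b : Fin 2, b = a ∨ b = a + 1 by decide) i₀ i⟩
  let w := xb j
  have hspanP : ∀ z : BP, ∃ a c : AP, z = a • l 1 + c • l w := by
    have hspan : ∀ i, bas i ∈ Submodule.span AP ({l 1, l w} : Set BP) := by
      have hj' : bas j ∈ Submodule.span AP ({l 1, l w} : Set BP) := by
        obtain ⟨c, hc⟩ := hunit (sb j) (bas j) (l w) (hxb j)
        rw [hc]
        exact Submodule.smul_mem _ _ (Submodule.subset_span (by simp))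
      intro i
      rcases hj i with rfl | rfl
      · obtain ⟨t, ht⟩ := hi₀
        have hsum : bas.repr (l 1) i • bas i ∈ Submodule.span AP ({l 1, l w} : Set BP) := by
          have h2 : l 1 - ∑ k ∈ Finset.univ.erase i, bas.repr (l 1) k • bas k = bas.repr (l 1) i • bas i := by
            rw [sub_eq_iff_eq_add, Finset.add_sum_erase _ (fun k => bas.repr (l 1) k • bas k) (Finset.mem_univ i), bas.sum_repr]
          rw [← h2]
          refine Submodule.sub_mem _ (Submodule.subset_span (by simp)) (Submodule.sum_mem _ fun k hk => ?_)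
          rcases hj k with rfl | rfl
          · exact absurd rfl (Finset.ne_of_mem_erase hk)
          · exact Submodule.smul_mem _ _ hj'
        rw [← ht] at hsum
        have := Submodule.smul_mem _ (↑t⁻¹ : AP) hsum
        rwa [smul_smul, Units.inv_mul, one_smul] at this
      · exact hj'
    intro z
    have : z ∈ Submodule.span AP ({l 1, l w} : Set BP) := by
      rw [← bas.sum_repr z]
      exact Submodule.sum_mem _ fun i _ => Submodule.smul_mem _ _ (hspan i)
    obtain ⟨a, c, h⟩ := Submodule.mem_span_pair.1 this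
    exact ⟨a, c, h.symm⟩
  let N : Submodule A B := Submodule.span A {1, w}
  have hloc : ∀ x : B, ∃ s : A, s ∉ P.asIdeal ∧ s • x ∈ N := fun x => by
    obtain ⟨a, c, h⟩ := hspanP (l x)
    obtain ⟨⟨a', sa⟩, hsa⟩ := IsLocalization.surj P.asIdeal.primeCompl a
    obtain ⟨⟨c', sc⟩, hsc⟩ := IsLocalization.surj P.asIdeal.primeCompl c
    have h2 : l (((sa : A) * sc) • x) = l ((a' * sc) • (1 : B) + (c' * sa) • w) := by
      rw [map_add, LinearMap.map_smul, LinearMap.map_smul, LinearMap.map_smul, h,
        ← IsScalarTower.algebraMap_smul AP ((sa : A) * sc), ← IsScalarTower.algebraMap_smul AP (a' * (sc : A)),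
        ← IsScalarTower.algebraMap_smul AP (c' * (sa : A)), smul_add, smul_smul, smul_smul]
      simp only [map_mul, ← hsa, ← hsc]
      congr 2 <;> ring
    obtain ⟨t, ht⟩ := IsLocalizedModule.exists_of_eq (S := P.asIdeal.primeCompl) h2
    refine ⟨(t : A) * ((sa : A) * sc), P.asIdeal.primeCompl.mul_mem t.2 (P.asIdeal.primeCompl.mul_mem sa.2 sc.2), ?_⟩
    rw [mul_smul, ← Submonoid.smul_def, ht, Submonoid.smul_def]
    refine N.smul_mem _ (N.add_mem (N.smul_mem _ ?_) (N.smul_mem _ ?_)) <;> exact Submodule.subset_span (by simp)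
  obtain ⟨G, hG⟩ := (Module.Finite.fg_top : (⊤ : Submodule A B).FG)
  choose sx hsx1 hsx2 using hloc
  let g := ∏ x ∈ G, sx x
  have hgN : ∀ x : B, g • x ∈ N := fun x => by
    have hx : x ∈ Submodule.span A (G : Set B) := hG ▸ trivial
    induction hx using Submodule.span_induction with
    | mem y hy =>
      obtain ⟨c, hc⟩ := Finset.dvd_prod_of_mem sx (Finset.mem_coe.1 hy)
      change g • y ∈ N
      rw [show g = sx y * c from hc, mul_comm, mul_smul]
      exact N.smul_mem _ (hsx2 y)
    | zero => rw [smul_zero]; exact N.zero_mem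
    | add y z _ _ hy hz => rw [smul_add]; exact N.add_mem hy hz
    | smul r y _ hy => rw [smul_comm]; exact N.smul_mem _ hy
  refine ⟨g, fun hg => ?_, w, fun x => ?_, fun a c hac => ?_⟩
  · obtain ⟨x, -, hx⟩ := P.isPrime.prod_mem_iff.1 hg
    exact hsx1 x hx
  · obtain ⟨a, c, h⟩ := Submodule.mem_span_pair.1 (hgN x)
    refine ⟨1, a, c, ?_⟩
    simp only [Algebra.smul_def, mul_one] at h
    rw [pow_one, ← h]
  · have key : ∀ q : Ideal A, ∀ [q.IsPrime], g ∉ q → ∃ s : A, s ∉ q ∧ s * a = 0 ∧ s * c = 0 := by
      intro q _ hgq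
      let Aq := Localization.AtPrime q
      let Bq := LocalizedModule q.primeCompl B
      let lq := LocalizedModule.mkLinearMap q.primeCompl B
      haveI : Module.Free Aq Bq := Module.free_of_flat_of_isLocalRing
      let φ : (Fin 2 → Aq) →ₗ[Aq] Bq := Fintype.linearCombination Aq ![lq 1, lq w]
      have hφ : Function.Surjective φ := fun z => by
        obtain ⟨⟨x, s⟩, hx⟩ := IsLocalizedModule.surj q.primeCompl lq z
        obtain ⟨a₁, c₁, h⟩ := Submodule.mem_span_pair.1 (hgN x)
        have hu : IsUnit (algebraMap A Aq (g * s)) :=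
          IsLocalization.map_units Aq (⟨g * s, q.primeCompl.mul_mem hgq s.2⟩ : q.primeCompl)
        obtain ⟨t, ht⟩ := hu
        refine ⟨![(↑t⁻¹ : Aq) * algebraMap A Aq a₁, (↑t⁻¹ : Aq) * algebraMap A Aq c₁], ?_⟩
        simp only [φ, Fintype.linearCombination_apply, Fin.sum_univ_two, Matrix.cons_val_zero, Matrix.cons_val_one]
        have h3 : (g * (s : A)) • z = a₁ • lq 1 + c₁ • lq w := by
          rw [mul_smul, ← Submonoid.smul_def, hx, ← LinearMap.map_smul, ← h, map_add, LinearMap.map_smul, LinearMap.map_smul]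
        rw [← IsScalarTower.algebraMap_smul Aq, ← IsScalarTower.algebraMap_smul Aq a₁,
          ← IsScalarTower.algebraMap_smul Aq c₁, ← ht] at h3
        rw [mul_smul, mul_smul, ← smul_add, ← h3, smul_smul, Units.inv_mul, one_smul]
      have hrq : Module.finrank Aq Bq = 2 := hrk ⟨q, inferInstance⟩
      let e : Bq ≃ₗ[Aq] (Fin 2 → Aq) :=
        ((Module.Free.chooseBasis Aq Bq).reindex (Fintype.equivFinOfCardEq (by
          rw [← Module.finrank_eq_card_chooseBasisIndex]; exact hrq))).equivFun
      have hinj : Function.Injective φ := by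
        have := OrzechProperty.injective_of_surjective_endomorphism (e.toLinearMap ∘ₗ φ) (e.surjective.comp hφ)
        exact fun x y h => this (by rw [LinearMap.comp_apply, LinearMap.comp_apply, h])
      have h0 : φ ![algebraMap A Aq a, algebraMap A Aq c] = φ 0 := by
        simp only [φ, Fintype.linearCombination_apply, Fin.sum_univ_two, Matrix.cons_val_zero, Matrix.cons_val_one,
          map_zero, IsScalarTower.algebraMap_smul]
        rw [← LinearMap.map_smul, ← LinearMap.map_smul, ← map_add, ← Algebra.algebraMap_eq_smul_one, Algebra.smul_def,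
          hac, map_zero]
      have h1 := congrFun (hinj h0) 0
      have h2 := congrFun (hinj h0) 1
      obtain ⟨s₁, hs₁⟩ := (IsLocalization.map_eq_zero_iff q.primeCompl Aq a).1 (by simpa using h1)
      obtain ⟨s₂, hs₂⟩ := (IsLocalization.map_eq_zero_iff q.primeCompl Aq c).1 (by simpa using h2)
      exact ⟨(s₁ : A) * s₂, q.primeCompl.mul_mem s₁.2 s₂.2, by linear_combination (s₂ : A) * hs₁,
        by linear_combination (s₁ : A) * hs₂⟩
    let J : Ideal A := LinearMap.ker (LinearMap.toSpanSingleton A A a) ⊓ LinearMap.ker (LinearMap.toSpanSingleton A A c)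
    have hgJ : g ∈ J.radical := by
      rw [Ideal.radical_eq_sInf, Ideal.mem_sInf]
      rintro q ⟨hJq, hq⟩
      by_contra hgq
      obtain ⟨s, hs, hsa, hsc⟩ := @key q hq hgq
      exact hs (hJq ⟨hsa, hsc⟩)
    obtain ⟨n, hn⟩ := hgJ
    exact ⟨n, hn.1, hn.2⟩

end DblCovLib
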